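import Mathlib
import Cfsg.Agent.Asch.UComp

/-! The normaliser of a Singer cycle of `SU₅(2)` lies in `L₂(11)`. -/

set_option autoImplicit false

namespace Cfsg.Agent.Asch

open Matrix Cfsg.Geo Cfsg.Agent.Herm
open scoped MatrixGroups

local notation "τ₄" => starRingEnd Comp.K4
local notation "ω" => Comp.w4

/-- An element of order 11. -/
def s5 : List CV := [
    [(0, 0), (1, 0), (0, 1), (1, 0), (0, 0)], [(0, 0), (1, 0), (0, 1), (0, 0), (1, 1)],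
    [(1, 1), (1, 0), (0, 1), (0, 0), (0, 0)], [(1, 0), (1, 1), (0, 1), (0, 1), (1, 0)],
    [(1, 1), (1, 1), (1, 1), (1, 0), (1, 1)]]

/-- An involution of `L₂(11)`. -/
def t5 : List CV := [
    [(0, 0), (1, 0), (0, 1), (0, 0), (1, 0)], [(1, 0), (1, 0), (1, 1), (1, 1), (1, 1)],
    [(1, 1), (0, 1), (1, 0), (1, 1), (1, 0)], [(0, 0), (0, 1), (0, 1), (0, 0), (1, 1)],
    [(1, 0), (0, 1), (1, 0), (0, 1), (1, 0)]]

/-- A transvection. -/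
def y5 : List CV := [
    [(1, 0), (0, 0), (0, 0), (0, 0), (0, 0)], [(0, 0), (1, 0), (0, 0), (0, 0), (0, 0)],
    [(0, 0), (0, 0), (1, 0), (0, 0), (0, 0)], [(0, 0), (0, 0), (0, 0), (0, 0), (1, 0)],
    [(0, 0), (0, 0), (0, 0), (1, 0), (0, 0)]]

/-- An orbit of `L₂(11)` on points. -/
def l5 : List CV := [
    [(0, 0), (0, 0), (0, 0), (0, 0), (1, 0)], [(0, 0), (1, 0), (0, 0), (1, 0), (1, 0)],
    [(0, 0), (1, 0), (0, 0), (0, 1), (1, 0)], [(0, 0), (1, 0), (0, 0), (1, 1), (0, 1)],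
    [(0, 0), (1, 0), (1, 0), (0, 0), (1, 0)], [(0, 0), (1, 0), (1, 0), (1, 1), (0, 0)],
    [(0, 0), (1, 0), (0, 1), (0, 0), (1, 0)], [(0, 0), (1, 0), (1, 1), (0, 0), (1, 1)],
    [(0, 0), (1, 0), (1, 1), (0, 1), (0, 0)], [(0, 0), (1, 0), (1, 1), (1, 1), (0, 0)],
    [(1, 0), (0, 0), (0, 0), (1, 0), (1, 1)], [(1, 0), (0, 0), (0, 0), (0, 1), (1, 1)],
    [(1, 0), (0, 0), (0, 0), (1, 1), (0, 1)], [(1, 0), (0, 0), (1, 0), (0, 0), (1, 0)],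
    [(1, 0), (0, 0), (1, 0), (1, 0), (0, 0)], [(1, 0), (0, 0), (1, 0), (1, 1), (0, 0)],
    [(1, 0), (0, 0), (0, 1), (0, 0), (1, 1)], [(1, 0), (0, 0), (1, 1), (0, 0), (1, 1)],
    [(1, 0), (0, 0), (1, 1), (1, 1), (0, 0)], [(1, 0), (1, 0), (0, 0), (1, 0), (0, 0)],
    [(1, 0), (1, 0), (0, 0), (0, 1), (0, 0)], [(1, 0), (1, 0), (1, 0), (1, 0), (1, 0)],
    [(1, 0), (1, 0), (1, 0), (1, 1), (1, 0)], [(1, 0), (1, 0), (0, 1), (0, 0), (0, 0)],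
    [(1, 0), (1, 0), (0, 1), (1, 0), (1, 1)], [(1, 0), (1, 0), (0, 1), (0, 1), (1, 0)],
    [(1, 0), (1, 0), (0, 1), (1, 1), (1, 0)], [(1, 0), (1, 0), (0, 1), (1, 1), (0, 1)],
    [(1, 0), (1, 0), (0, 1), (1, 1), (1, 1)], [(1, 0), (1, 0), (1, 1), (0, 1), (1, 1)],
    [(1, 0), (1, 0), (1, 1), (1, 1), (1, 1)], [(1, 0), (0, 1), (0, 0), (0, 1), (0, 0)],
    [(1, 0), (0, 1), (1, 0), (1, 0), (1, 1)], [(1, 0), (0, 1), (1, 0), (0, 1), (1, 0)],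
    [(1, 0), (0, 1), (1, 0), (0, 1), (0, 1)], [(1, 0), (0, 1), (1, 0), (0, 1), (1, 1)],
    [(1, 0), (0, 1), (1, 0), (1, 1), (0, 1)], [(1, 0), (0, 1), (0, 1), (0, 0), (0, 0)],
    [(1, 0), (0, 1), (0, 1), (1, 0), (1, 1)], [(1, 0), (0, 1), (0, 1), (0, 1), (0, 1)],
    [(1, 0), (0, 1), (1, 1), (0, 0), (0, 0)], [(1, 0), (0, 1), (1, 1), (0, 1), (1, 1)],
    [(1, 0), (0, 1), (1, 1), (1, 1), (0, 1)], [(1, 0), (1, 1), (1, 0), (0, 1), (1, 0)],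
    [(1, 0), (1, 1), (1, 0), (0, 1), (1, 1)], [(1, 0), (1, 1), (1, 0), (1, 1), (1, 0)],
    [(1, 0), (1, 1), (1, 0), (1, 1), (0, 1)], [(1, 0), (1, 1), (1, 0), (1, 1), (1, 1)],
    [(1, 0), (1, 1), (0, 1), (0, 1), (1, 0)], [(1, 0), (1, 1), (0, 1), (0, 1), (0, 1)],
    [(1, 0), (1, 1), (0, 1), (0, 1), (1, 1)], [(1, 0), (1, 1), (0, 1), (1, 1), (0, 1)],
    [(1, 0), (1, 1), (0, 1), (1, 1), (1, 1)], [(1, 0), (1, 1), (1, 1), (1, 0), (1, 0)],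
    [(1, 0), (1, 1), (1, 1), (1, 0), (0, 1)]]

/-- Its coordinates in a cyclic basis. -/
def c5 : List CV := [
    [(1, 1), (1, 0), (1, 0), (0, 0), (1, 1)], [(0, 0), (0, 1), (1, 1), (1, 0), (1, 0)],
    [(1, 0), (0, 1), (1, 1), (1, 1), (0, 1)], [(1, 0), (1, 0), (0, 0), (0, 0), (1, 0)],
    [(0, 1), (1, 0), (0, 1), (1, 1), (1, 0)], [(0, 0), (0, 0), (1, 1), (1, 0), (1, 0)],
    [(0, 1), (1, 1), (1, 0), (0, 0), (0, 1)], [(1, 1), (0, 1), (0, 1), (1, 0), (0, 1)],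
    [(0, 1), (1, 0), (1, 0), (0, 0), (0, 1)], [(0, 0), (1, 0), (1, 0), (1, 1), (1, 1)],
    [(1, 0), (1, 1), (1, 1), (1, 1), (1, 1)], [(0, 0), (1, 1), (1, 1), (1, 0), (0, 0)],
    [(1, 0), (0, 1), (0, 1), (0, 1), (0, 1)], [(0, 1), (0, 1), (0, 0), (1, 0), (0, 1)],
    [(1, 1), (1, 1), (1, 0), (0, 1), (0, 0)], [(0, 0), (1, 1), (1, 0), (1, 1), (0, 1)],
    [(1, 1), (0, 1), (1, 0), (0, 1), (0, 0)], [(1, 1), (1, 0), (0, 0), (1, 1), (1, 0)],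
    [(0, 0), (0, 1), (1, 1), (1, 0), (0, 0)], [(0, 1), (1, 1), (0, 1), (1, 0), (0, 1)],
    [(1, 1), (1, 1), (0, 1), (1, 1), (1, 0)], [(1, 0), (1, 0), (0, 1), (0, 0), (0, 0)],
    [(0, 1), (1, 0), (0, 1), (1, 0), (0, 1)], [(0, 0), (0, 1), (0, 0), (0, 0), (1, 0)],
    [(0, 0), (1, 0), (1, 1), (1, 1), (0, 1)], [(0, 0), (1, 1), (1, 0), (1, 0), (0, 0)],
    [(0, 1), (1, 1), (1, 0), (0, 1), (1, 0)], [(0, 0), (0, 0), (0, 1), (0, 1), (1, 1)],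
    [(1, 1), (1, 0), (1, 1), (0, 1), (0, 0)], [(1, 0), (0, 1), (0, 1), (0, 0), (0, 0)],
    [(1, 1), (0, 1), (0, 1), (1, 1), (1, 0)], [(0, 0), (1, 0), (1, 1), (0, 1), (1, 1)],
    [(1, 1), (1, 0), (1, 0), (1, 0), (1, 1)], [(1, 1), (1, 1), (1, 1), (1, 1), (1, 0)],
    [(1, 0), (0, 0), (0, 0), (1, 1), (1, 1)], [(0, 1), (1, 0), (1, 0), (1, 1), (0, 0)],
    [(1, 1), (0, 0), (0, 0), (0, 0), (0, 1)], [(1, 1), (0, 0), (1, 0), (1, 0), (1, 1)],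
    [(1, 1), (1, 1), (0, 1), (0, 1), (0, 0)], [(1, 0), (0, 1), (1, 1), (0, 0), (0, 0)],
    [(1, 1), (1, 1), (0, 0), (0, 0), (0, 1)], [(0, 1), (0, 0), (1, 1), (1, 0), (0, 1)],
    [(1, 1), (1, 0), (0, 1), (0, 1), (0, 0)], [(0, 1), (0, 0), (1, 0), (1, 0), (0, 1)],
    [(1, 1), (0, 1), (1, 1), (1, 0), (1, 1)], [(0, 0), (0, 0), (1, 0), (0, 1), (1, 1)],
    [(0, 1), (1, 1), (0, 1), (0, 1), (1, 0)], [(1, 0), (0, 1), (1, 1), (0, 1), (0, 1)],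
    [(0, 1), (0, 1), (0, 1), (0, 1), (1, 0)], [(0, 0), (1, 0), (1, 0), (0, 1), (1, 1)],
    [(1, 1), (0, 0), (0, 0), (0, 1), (0, 0)], [(0, 1), (1, 0), (1, 0), (1, 0), (0, 1)],
    [(1, 0), (0, 0), (0, 0), (1, 0), (1, 0)], [(1, 1), (1, 0), (1, 1), (1, 0), (1, 1)],
    [(1, 0), (0, 1), (0, 0), (1, 0), (1, 0)]]

set_option synthInstance.maxSize 1000 in
theorem qf_K4 : QF ⟨2, 1, 1⟩ τ₄ ω :=
  ⟨by decide, by decide +kernel, by decide +kernel, by decide +kernel, by decide +kernel⟩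

theorem singer5 : QP.singer ⟨2, 1, 1⟩ 5 11 [(0, 0), (1, 0), (0, 1), (1, 1)] [(1, 0), (0, 1), (1, 1)]
    s5 [(1, 0)] l5 c5 (fun _ _ => true) = true := by decide +kernel

theorem su5_field {F : Type*} [Field F] [Fintype F] {q : ℕ} (hF : Fintype.card F = q ^ 2)
    {K : Subalgebra F (Matrix (Fin 5) (Fin 5) F)} (hK : IsFieldSubalgebra 5 K)
    (ha : AdjSt (frob (natCard_of_card hF)) 1 K)
    (hH : IsMaximalIn (GU 5 F q ⊓ specialLinear (Fin 5) F)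
      (subalgebraNormalizer K ⊓ (GU 5 F q ⊓ specialLinear (Fin 5) F))) : 3 ≤ q := by
  have := (uf_one hF (n := 5) (by norm_num)).two_le
  by_contra h
  obtain rfl : q = 2 := by omega
  have h0 : dm ω 5 s5 ^ 11 = 1 := by decide +kernel
  obtain ⟨H, h1, h2⟩ := singer_reduce hF Comp.card_K4 inv_K4 (by norm_num) hK ha hH (p := 11)
    (by norm_num) (by norm_num) (by decide +kernel) (by decide +kernel)
    (s := uG inv_K4.1 (dm ω 5 s5) (by decide +kernel)) (mem_Iso_one.2 (by decide +kernel)) h0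
    (by decide +kernel)
  have key : ∀ g : GL (Fin 5) Comp.K4, g.1ᵀ * g.1.map τ₄ = 1 → g.1 * g.1 = 1 → g ∈ UU τ₄ _ :=
    fun g h3 h4 => mem_UU.2 ⟨h3, by
      have := congrArg det h4
      rw [det_mul, det_one] at this
      revert this
      generalize g.1.det = d
      revert d
      decide +kernel⟩
  refine not_max_of_le (fun g hg => (h2 g hg).1.elim fun i hi => qf_K4.singer (by decide +kernel)
    (by decide +kernel) (by decide) (by decide) h0 singer5 (h1.1.le hg).1 hi.1 hi.2 fun _ _ _ => rfl)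
    (key (uG inv_K4.1 (dm ω 5 t5) (by decide +kernel)) (by decide +kernel) (by decide +kernel))
    (qf_K4.pres (μ := [(1, 0), (0, 1), (1, 1)]) (by decide +kernel) (by decide) (by decide +kernel)
      rfl) (fun h => absurd (h2 _ h).2 (by decide +kernel))
    (key (uG inv_K4.1 (dm ω 5 y5) (by decide +kernel)) (by decide +kernel) (by decide +kernel))
    (fun h => qf_K4.not_ss (μ := [(1, 0), (0, 1), (1, 1)]) (by decide +kernel)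
      (n := 5) (l := l5) (v := QP.mv ⟨2, 1, 1⟩ y5 (l5.getD 0 [])) (by decide +kernel) ?_) h1
  rw [qf_K4.dv_mv _ (by decide)]
  exact h _ ⟨_, by decide, 1, by simp, (one_smul _ _).symm⟩

end Cfsg.Agent.Asch
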